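import Groth.Agent.EssDimP1.Genus0
import Groth.Prelude.Def_EssDim
import Groth.Prelude.Def_StCurv

/-!
# Pointed curves of genus zero descend to the prime field of the base
-/

set_option autoImplicit false
set_option linter.style.haveILetI false
set_option backward.isDefEq.respectTransparency.types false
set_option maxHeartbeats 1000000

universe u

open CategoryTheory CategoryTheory.Limits AlgebraicGeometry MvPolynomial

namespace Groth.Agent.EssDimP1

attribute [local instance] MvPolynomial.algebraMvPolynomial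

/-- The base change carries standard points to standard points. -/
theorem stdPt_projBC (K L : Type u) [Field K] [Field L] [Algebra K L] (i : Fin (1 + 1)) :
    stdPt (RingHom.id L) i ≫ Proj.map (Coherent.polyGradedMap 1 K L) (Coherent.polyGradedMap_irrelevant 1 K L) =
      Spec.map (CommRingCat.ofHom (algebraMap K L)) ≫ stdPt (RingHom.id K) i := by
  let φ := Coherent.polyGradedMap 1 K L
  have hX : φ (X i) = (X i : MvPolynomial (Fin (1 + 1)) L) := MvPolynomial.map_X _ _
  have hc : ∀ p, eval₂Hom (RingHom.id L) (stdVec L i) (φ p) = eval₂Hom (algebraMap K L) (stdVec L i) p := fun p =>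
    (MvPolynomial.eval₂_map _ _ _ _).trans (by rw [RingHom.id_comp]; rfl)
  have hne : eval₂Hom (algebraMap K L) (stdVec L i) (X i : MvPolynomial (Fin (1 + 1)) K) ≠ 0 :=
    eval₂Hom_X_ne_zero _ _ (stdVec_self L i)
  rw [stdPt, ← pointAt_X (RingHom.id L) (stdVec L i) i (stdVec_self L i),
    ← pointAt_congr (RingHom.id L) (stdVec L i) hX (φ.2 (ProjLib.X_mem_polyGrading 1 K i))
      (ProjLib.X_mem_polyGrading 1 L i) one_pos ((hc (X i)).trans_ne hne)]
  refine (pointAt_map (algebraMap K L) (stdVec L i) (RingHom.id L) (stdVec L i) φ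
    (Coherent.polyGradedMap_irrelevant 1 K L) hc (ProjLib.X_mem_polyGrading 1 K i) one_pos hne).trans ?_
  rw [pointAt_X (algebraMap K L) (stdVec L i) i (stdVec_self L i), stdPt, BrSev28.pt_comp]
  have e : (fun l => algebraMap K L (stdVec K i l)) = stdVec L i := by
    funext l
    simp only [stdVec]
    split_ifs <;> simp
  simp only [RingHom.comp_id]
  congr 1
  exact e.symm

variable {k : Type u} [Field k]

/-- Up to two marked points are moved to standard ones. -/
theorem exists_aut_stdPts {L : Type u} [Field L] {n : ℕ} (hn : n = 1 ∨ n = 2)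
    (z : Fin n → (Spec (CommRingCat.of L) ⟶ CohB1.ProjSpace 1 L))
    (hz : ∀ i, z i ≫ CohB1.ProjSpace.toSpec 1 L = 𝟙 _) (hne : ∀ i j, i ≠ j → z i ≠ z j) :
    ∃ α : CohB1.ProjSpace 1 L ≅ CohB1.ProjSpace 1 L, α.hom ≫ CohB1.ProjSpace.toSpec 1 L = CohB1.ProjSpace.toSpec 1 L ∧
      ∀ i, z i ≫ α.hom = stdPt (RingHom.id L) (Fin.castLE (m := 1 + 1) (by omega) i) := by
  rcases hn with rfl | rfl
  · obtain ⟨α, hα, h0⟩ := exists_aut_std_one (z 0) (hz 0)
    exact ⟨α, hα, fun i => by fin_cases i; exact h0⟩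
  · obtain ⟨α, hα, h0, h1⟩ := exists_aut_std (z 0) (z 1) (hz 0) (hz 1) (hne 0 1 (by decide))
    refine ⟨α, hα, fun i => ?_⟩
    fin_cases i
    · exact h0
    · exact h1

variable (k) in
/-- The standard pointed line. -/
noncomputable def stdFam (K : Type u) [Field K] [Algebra k K] (n : ℕ) (hn : n ≤ 1 + 1) :
    CurvSt.PtFamObj (Spec (CommRingCat.of k)) n where
  base := SGA7.pt (K := k) K
  C := CohB1.ProjSpace 1 K
  f := CohB1.ProjSpace.toSpec 1 K
  sect i := stdPt (RingHom.id K) (Fin.castLE hn i)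
  sect_f i := by
    rw [stdPt_toSpec, CommRingCat.ofHom_id, Spec.map_id]
    rfl

theorem isSmoothPtdFam_stdFam (K : Type u) [Field K] [Algebra k K] (n : ℕ) (hn : n ≤ 1 + 1) :
    CurvSt.IsSmoothPtdFam (stdFam k K n hn).f (stdFam k K n hn).sect 0 := by
  refine ⟨isCurveOfGenus_projLine K, fun i j hij c => ?_⟩
  have hv : i.1 ≠ j.1 := fun e => hij (Fin.ext e)
  show stdPt (RingHom.id K) (Fin.castLE hn i) c ≠ stdPt (RingHom.id K) (Fin.castLE hn j) c
  have h01 := stdPt_zero_apply_ne (R := K) (RingHom.id K) (RingHom.id K) c c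
  rcases (show i.1 = 0 ∧ j.1 = 1 ∨ i.1 = 1 ∧ j.1 = 0 by omega) with ⟨hi, hj⟩ | ⟨hi, hj⟩
  · rw [show Fin.castLE hn i = 0 from Fin.ext hi, show Fin.castLE hn j = 1 from Fin.ext hj]
    exact h01
  · rw [show Fin.castLE hn i = 1 from Fin.ext hi, show Fin.castLE hn j = 0 from Fin.ext hj]
    exact h01.symm

/-- Every pointed curve of genus zero over `L` is defined over `k`. -/
theorem descends_bot {n : ℕ} (hn : n = 1 ∨ n = 2) {L : Type u} [Field L] [Algebra k L]
    [FibCat.IsFibGrpd (CurvSt.Mgn (Spec (CommRingCat.of k)) 0 n).p]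
    (x : StkCnt.pts (CurvSt.Mgn (Spec (CommRingCat.of k)) 0 n) L) :
    EssDim.Descends (Gerb.isoClPsh (CurvSt.Mgn (Spec (CommRingCat.of k)) 0 n))
      (Quot.mk (Gerb.IsoRel (CurvSt.Mgn (Spec (CommRingCat.of k)) 0 n) (SGA7.pt (K := k) L)) x)
      (⊥ : IntermediateField k L) := by
  rw [EssDim.descends_isoCl_iff]
  obtain ⟨⟨A, hA⟩, hx⟩ := x
  obtain ⟨base, C, f, σ, hσ⟩ := A
  change base = SGA7.pt (K := k) L at hx
  subst hx
  obtain ⟨hgen, hdis⟩ := hA
  let K : IntermediateField k L := ⊥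
  obtain ⟨e, he⟩ := exists_iso_projLine_of_section f hgen (σ ⟨0, by omega⟩) (hσ _)
  obtain ⟨α, hα, hασ⟩ := exists_aut_stdPts hn (fun i => σ i ≫ e.hom)
    (fun i => by rw [Category.assoc, he, hσ]; rfl)
    (fun i j hij h => hdis i j hij (IsLocalRing.closedPoint L)
      (congrArg (fun g => g (IsLocalRing.closedPoint L)) ((cancel_mono e.hom).1 h)))
  have hsq := Coherent.isPullback_projSpace 1 K L
  let φ : (⟨SGA7.pt (K := k) L, C, f, σ, hσ⟩ : CurvSt.PtFamObj (Spec (CommRingCat.of k)) n) ⟶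
      stdFam k K n (by omega) :=
    { base := EssDim.resPt K.val
      top := (e ≪≫ α).hom ≫ Proj.map (Coherent.polyGradedMap 1 K L) (Coherent.polyGradedMap_irrelevant 1 K L)
      cart := by
        have h1 : IsPullback (e ≪≫ α).hom f (CohB1.ProjSpace.toSpec 1 L) (𝟙 _) :=
          IsPullback.of_horiz_isIso ⟨by rw [Category.comp_id, Iso.trans_hom, Category.assoc, hα, he]⟩
        have h2 := h1.paste_horiz hsq
        rw [Category.id_comp] at h2
        exact h2
      w_sect := fun i => by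
        rw [Iso.trans_hom, Category.assoc, ← Category.assoc (σ i)]
        refine (Category.assoc _ _ _).symm.trans ?_
        refine (congrArg (· ≫ Proj.map (Coherent.polyGradedMap 1 K L) _) (hασ i)).trans ?_
        exact stdPt_projBC K L _ }
  let x₀ : (CurvSt.Mgn (Spec (CommRingCat.of k)) 0 n).obj :=
    ⟨stdFam k K n (by omega), isSmoothPtdFam_stdFam K n (by omega)⟩
  let x₁ : (CurvSt.Mgn (Spec (CommRingCat.of k)) 0 n).obj :=
    ⟨⟨SGA7.pt (K := k) L, C, f, σ, hσ⟩, ⟨hgen, hdis⟩⟩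
  let ψ : x₁ ⟶ x₀ := ObjectProperty.homMk (X := x₁) (Y := x₀) φ
  refine ⟨⟨x₀, rfl⟩, ψ, ?_⟩
  exact inferInstanceAs ((CurvSt.Mgn (Spec (CommRingCat.of k)) 0 n).p.IsHomLift
    ((CurvSt.Mgn (Spec (CommRingCat.of k)) 0 n).p.map ψ) ψ)

theorem edSt_eq_zero {n : ℕ} (hn : n = 1 ∨ n = 2)
    [FibCat.IsFibGrpd (CurvSt.Mgn (Spec (CommRingCat.of k)) 0 n).p] :
    EssDim.edSt (CurvSt.Mgn (Spec (CommRingCat.of k)) 0 n) = 0 := by
  refine le_antisymm ?_ ?_
  · refine iSup_le fun L => iSup_le fun _ => iSup_le fun _ => iSup_le fun ξ => ?_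
    induction ξ using Quot.ind with
    | mk x =>
      have h : EssDim.edAt (Gerb.isoClPsh (CurvSt.Mgn (Spec (CommRingCat.of k)) 0 n))
          (Quot.mk (Gerb.IsoRel (CurvSt.Mgn (Spec (CommRingCat.of k)) 0 n) (SGA7.pt (K := k) L)) x) ≤ 0 := by
        refine (EssDim.edAt_le_of_descends (descends_bot hn x)).trans (le_of_eq ?_)
        haveI : Algebra.IsAlgebraic k (⊥ : IntermediateField k L) :=
          Algebra.IsAlgebraic.of_finite k (⊥ : IntermediateField k L)
        rw [trdeg_eq_zero, map_zero]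
      exact WithBot.coe_le_coe.2 h
  · have h := EssDim.edAt_le_ed (P := Gerb.isoClPsh (CurvSt.Mgn (Spec (CommRingCat.of k)) 0 n)) (L := k)
      (Quot.mk _ ⟨⟨stdFam k k n (by omega), isSmoothPtdFam_stdFam k n (by omega)⟩, rfl⟩)
    exact le_trans (WithBot.coe_le_coe.2 bot_le) h

end Groth.Agent.EssDimP1
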