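import Groth.Agent.BrSev28.ProjPts
import Mathlib

/-!
# Field valued points of projective space on an arbitrary standard chart

`pointAt f v` is the point with homogeneous coordinates `v`, factored through the chart `D₊(f)`;
it does not depend on `f`, and is carried to `pointAt s w` by a graded map sending `w` to `v`.
-/

set_option autoImplicit false
set_option backward.isDefEq.respectTransparency.types false

universe u

open CategoryTheory CategoryTheory.Limits AlgebraicGeometry MvPolynomial HomogeneousLocalization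
open Groth.Agent.ProjLib

namespace Groth.Agent.EssDimP1

variable {m : ℕ} {K : Type u} [CommRing K] {L : Type u} [Field L] (q : K →+* L) (v : Fin (m + 1) → L)

/-- Evaluation of degree zero fractions at `v`. -/
noncomputable def evalAway (f : MvPolynomial (Fin (m + 1)) K) (hv : eval₂Hom q v f ≠ 0) :
    Away (CohB1.polyGrading m K) f →+* L :=
  (IsLocalization.Away.lift (S := Localization.Away f) f (g := eval₂Hom q v) hv.isUnit).comp
    (algebraMap (Away (CohB1.polyGrading m K) f) (Localization.Away f))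

theorem evalAway_apply (f : MvPolynomial (Fin (m + 1)) K) (hv : eval₂Hom q v f ≠ 0)
    (a : Away (CohB1.polyGrading m K) f) :
    evalAway q v f hv a =
      IsLocalization.Away.lift (S := Localization.Away f) f (g := eval₂Hom q v) hv.isUnit a.val := rfl

theorem evalAway_mk {d n : ℕ} {f : MvPolynomial (Fin (m + 1)) K} (hf : f ∈ CohB1.polyGrading m K d)
    (hv : eval₂Hom q v f ≠ 0) (a : MvPolynomial (Fin (m + 1)) K) (ha : a ∈ CohB1.polyGrading m K (n • d)) :
    evalAway q v f hv (Away.mk (CohB1.polyGrading m K) hf n a ha) * eval₂Hom q v f ^ n = eval₂Hom q v a := by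
  rw [evalAway_apply, Away.val_mk]
  set l := IsLocalization.Away.lift (S := Localization.Away f) f (g := eval₂Hom q v) hv.isUnit
  have h : ∀ x, l (algebraMap _ (Localization.Away f) x) = eval₂Hom q v x := fun x =>
    IsLocalization.Away.lift_eq f hv.isUnit x
  rw [← map_pow, ← h, ← h, ← map_mul, Localization.mk_eq_mk']
  exact congrArg l (IsLocalization.mk'_spec _ a (⟨f ^ n, ⟨n, rfl⟩⟩ : Submonoid.powers f))

theorem evalAway_toAway (f : MvPolynomial (Fin (m + 1)) K) (hv : eval₂Hom q v f ≠ 0) :
    (evalAway q v f hv).comp (toAway m K f) = q := by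
  refine RingHom.ext fun r => ?_
  rw [RingHom.comp_apply, evalAway_apply, val_toAway, IsLocalization.Away.lift_eq, eval₂Hom_C]

theorem evalAway_awayMap {f g x : MvPolynomial (Fin (m + 1)) K} {e : ℕ} (hg : g ∈ CohB1.polyGrading m K e)
    (hx : x = f * g) (hvf : eval₂Hom q v f ≠ 0) (hvx : eval₂Hom q v x ≠ 0) :
    (evalAway q v x hvx).comp (awayMap (CohB1.polyGrading m K) hg hx) = evalAway q v f hvf := by
  refine RingHom.ext fun a => ?_
  rw [RingHom.comp_apply, evalAway_apply, evalAway_apply, val_awayMap]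
  refine RingHom.congr_fun (IsLocalization.ringHom_ext (Submonoid.powers f) (j :=
    IsLocalization.Away.lift (S := Localization.Away f) f (g := eval₂Hom q v) hvf.isUnit)
    (k := (IsLocalization.Away.lift (S := Localization.Away x) x (g := eval₂Hom q v) hvx.isUnit).comp
      (Localization.awayLift (algebraMap _ (Localization.Away x)) f
        (isUnit_of_dvd_unit (map_dvd _ ⟨g, hx⟩) (IsLocalization.Away.algebraMap_isUnit x)))) ?_).symm _
  refine RingHom.ext fun r => ?_
  simp only [RingHom.comp_apply, IsLocalization.Away.lift_eq, Localization.awayLift]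

/-- The point with homogeneous coordinates `v`, on the chart `D₊(f)`. -/
noncomputable def pointAt {d : ℕ} (f : MvPolynomial (Fin (m + 1)) K) (hf : f ∈ CohB1.polyGrading m K d)
    (hd : 0 < d) (hv : eval₂Hom q v f ≠ 0) : Spec (CommRingCat.of L) ⟶ CohB1.ProjSpace m K :=
  Spec.map (CommRingCat.ofHom (evalAway q v f hv)) ≫ Proj.awayι (CohB1.polyGrading m K) f hf hd

theorem pointAt_mul {d e : ℕ} {f g x : MvPolynomial (Fin (m + 1)) K} (hf : f ∈ CohB1.polyGrading m K d)
    (hd : 0 < d) (hg : g ∈ CohB1.polyGrading m K e) (hx : x = f * g) (hx' : x ∈ CohB1.polyGrading m K (d + e))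
    (hvf : eval₂Hom q v f ≠ 0) (hvx : eval₂Hom q v x ≠ 0) :
    pointAt q v x hx' (hd.trans_le (Nat.le_add_right _ _)) hvx = pointAt q v f hf hd hvf := by
  rw [pointAt, pointAt, ← evalAway_awayMap q v hg hx hvf hvx, CommRingCat.ofHom_comp, Spec.map_comp,
    Category.assoc]
  exact (congrArg (Spec.map (CommRingCat.ofHom (evalAway q v x hvx)) ≫ ·)
    (Proj.SpecMap_awayMap_awayι (CohB1.polyGrading m K) hf hd hg hx)).symm

/-- The point does not depend on the chart. -/
theorem pointAt_indep {d e : ℕ} {f g : MvPolynomial (Fin (m + 1)) K} (hf : f ∈ CohB1.polyGrading m K d)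
    (hd : 0 < d) (hg : g ∈ CohB1.polyGrading m K e) (he : 0 < e)
    (hvf : eval₂Hom q v f ≠ 0) (hvg : eval₂Hom q v g ≠ 0) :
    pointAt q v f hf hd hvf = pointAt q v g hg he hvg := by
  have hx : f * g ∈ CohB1.polyGrading m K (d + e) := SetLike.mul_mem_graded hf hg
  have hv : eval₂Hom q v (f * g) ≠ 0 := by rw [map_mul]; exact mul_ne_zero hvf hvg
  have hgf : f * g ∈ CohB1.polyGrading m K (e + d) := add_comm d e ▸ hx
  have key : ∀ {a b : ℕ} (h : a = b) (ha : f * g ∈ CohB1.polyGrading m K a) (hb : f * g ∈ CohB1.polyGrading m K b)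
      (pa : 0 < a) (pb : 0 < b), pointAt q v (f * g) ha pa hv = pointAt q v (f * g) hb pb hv := by
    intro a b h ha hb pa pb
    subst h
    rfl
  rw [← pointAt_mul q v hf hd hg rfl hx hvf hv, ← pointAt_mul q v hg he hf (mul_comm f g) hgf hvg hv]
  exact key (add_comm d e) _ _ _ _

theorem pointAt_congr {d : ℕ} {f f' : MvPolynomial (Fin (m + 1)) K} (h : f = f') (hf : f ∈ CohB1.polyGrading m K d)
    (hf' : f' ∈ CohB1.polyGrading m K d) (hd : 0 < d) (hv : eval₂Hom q v f ≠ 0) (hv' : eval₂Hom q v f' ≠ 0) :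
    pointAt q v f hf hd hv = pointAt q v f' hf' hd hv' := by
  subst h
  rfl

theorem eval₂Hom_X_ne_zero {i : Fin (m + 1)} (hi : v i = 1) :
    eval₂Hom q v (X i : MvPolynomial (Fin (m + 1)) K) ≠ 0 := by
  rw [eval₂Hom_X', hi]; exact one_ne_zero

/-- The normalised points of `BrSev28`. -/
theorem pointAt_X (i : Fin (m + 1)) (hi : v i = 1) :
    pointAt q v (X i) (X_mem_polyGrading m K i) one_pos (eval₂Hom_X_ne_zero q v hi) = BrSev28.pt m q i v hi := by
  refine (BrSev28.pt_eq m i _ q (evalAway_toAway q v _ _) v hi fun l => ?_).symm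
  have h := evalAway_mk q v (n := 1) (X_mem_polyGrading m K i) (eval₂Hom_X_ne_zero q v hi) (X l)
    (by simpa using isHomogeneous_X K l)
  rw [eval₂Hom_X', eval₂Hom_X', hi, pow_one, mul_one] at h
  rw [BrSev28.coord_eq_mk]
  exact h

/-- The point avoids `D₊(g)` when `g` vanishes at `v`. -/
theorem pointAt_notMem {d e : ℕ} {f g : MvPolynomial (Fin (m + 1)) K} (hf : f ∈ CohB1.polyGrading m K d)
    (hd : 0 < d) (hg : g ∈ CohB1.polyGrading m K e) (he : 0 < e) (hv : eval₂Hom q v f ≠ 0) (hg0 : eval₂Hom q v g = 0)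
    (p : Spec (CommRingCat.of L)) : pointAt q v f hf hd hv p ∉ Proj.basicOpen (CohB1.polyGrading m K) g := by
  intro h
  have h' : Spec.map (CommRingCat.ofHom (evalAway q v f hv)) p ∈
      Proj.awayι (CohB1.polyGrading m K) f hf hd ⁻¹ᵁ Proj.basicOpen (CohB1.polyGrading m K) g := h
  rw [Proj.awayι_preimage_basicOpen _ hf hd hg he] at h'
  have h0 : evalAway q v f hv (Away.isLocalizationElem hf hg) = 0 := by
    have := evalAway_mk q v hf hv (n := e) (g ^ d) (by simpa [mul_comm e d] using SetLike.pow_mem_graded d hg)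
    rw [map_pow, hg0, zero_pow hd.ne'] at this
    exact (mul_eq_zero.1 this).resolve_right (pow_ne_zero _ hv)
  refine h' ?_
  show evalAway q v f hv (Away.isLocalizationElem hf hg) ∈ p.asIdeal
  rw [h0]
  exact zero_mem _

variable {K' : Type u} [CommRing K'] (q' : K' →+* L) (w : Fin (m + 1) → L)
  (φ : CohB1.polyGrading m K →+*ᵍ CohB1.polyGrading m K')

/-- Graded maps act on points by the transformation of coordinates. -/
theorem pointAt_map (hφ : HomogeneousIdeal.irrelevant (CohB1.polyGrading m K') ≤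
      (HomogeneousIdeal.irrelevant (CohB1.polyGrading m K)).map φ)
    (hc : ∀ p, eval₂Hom q' w (φ p) = eval₂Hom q v p) {d : ℕ} {s : MvPolynomial (Fin (m + 1)) K}
    (hs : s ∈ CohB1.polyGrading m K d) (hd : 0 < d) (hv : eval₂Hom q v s ≠ 0) :
    pointAt q' w (φ s) (φ.2 hs) hd (by rw [hc]; exact hv) ≫ Proj.map φ hφ = pointAt q v s hs hd hv := by
  have he : (evalAway q' w (φ s) (by rw [hc]; exact hv)).comp (Away.map φ s) = evalAway q v s hv := by
    refine RingHom.ext fun a => ?_
    obtain ⟨n, b, hb, rfl⟩ := a.mk_surjective _ hs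
    rw [RingHom.comp_apply, Away.map_mk]
    refine mul_right_cancel₀ (pow_ne_zero n hv) ((?_ : _ = eval₂Hom q v b).trans (evalAway_mk q v hs hv b hb).symm)
    refine Eq.trans (congrArg (_ * ·) (congrArg (· ^ n) (hc s).symm)) ?_
    exact (evalAway_mk q' w (φ.2 hs) _ (φ b) _).trans (hc b)
  rw [pointAt, pointAt, ← he, CommRingCat.ofHom_comp, Spec.map_comp]
  exact (Category.assoc _ _ _).trans ((congrArg (_ ≫ ·) (Proj.awayι_comp_map φ hφ hd s hs)).trans
    (Category.assoc _ _ _).symm)

include φ in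
/-- A graded map compatible with the scalars lies over them. -/
theorem map_toSpec {ρ : K →+* K'} (hρ : ∀ r, φ (C r) = C (ρ r))
    (hφ : HomogeneousIdeal.irrelevant (CohB1.polyGrading m K') ≤
      (HomogeneousIdeal.irrelevant (CohB1.polyGrading m K)).map φ) :
    Proj.map φ hφ ≫ CohB1.ProjSpace.toSpec m K =
      CohB1.ProjSpace.toSpec m K' ≫ Spec.map (CommRingCat.ofHom ρ) := by
  refine (Proj.mapAffineOpenCover φ hφ).openCover.hom_ext _ _ fun s => ?_
  rw [Scheme.AffineOpenCover.openCover_f, Proj.mapAffineOpenCover_f]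
  refine (Proj.awayι_comp_map_assoc φ hφ s.1.2 _ s.2.2 _).trans ?_
  refine (congrArg (_ ≫ ·) (awayι_toSpec m K s.2.2 s.1.2)).trans ?_
  refine Eq.trans ?_ ((congrArg (· ≫ Spec.map (CommRingCat.ofHom ρ))
    (awayι_toSpec m K' (φ.2 s.2.2) s.1.2)).symm.trans (Category.assoc _ _ _))
  rw [← Spec.map_comp, ← Spec.map_comp, ← CommRingCat.ofHom_comp, ← CommRingCat.ofHom_comp]
  refine congrArg (fun h => Spec.map (CommRingCat.ofHom h)) (RingHom.ext fun r => val_injective _ ?_)
  rw [RingHom.comp_apply, RingHom.comp_apply, val_toAway]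
  show (HomogeneousLocalization.map φ _ (HomogeneousLocalization.mk _)).val = _
  rw [HomogeneousLocalization.map_mk, val_mk, ← Localization.mk_one_eq_algebraMap]
  congr 1
  · exact hρ r
  · exact Subtype.ext (map_one φ)

end Groth.Agent.EssDimP1
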