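import Groth.Agent.EssDimP1.Line
import Groth.Agent.NeronLib.ProjLine
import Groth.Agent.DimLib.ProjDim
import Groth.Agent.DimLib.BaseChange
import Groth.Agent.CurveRR24.DoubleCover.Morphism
import Groth.Agent.CurveRR24.DegGroup
import Groth.Agent.CurveRR24.RatPoint
import Groth.Agent.CurveRR24.VeryAmple
import Groth.Agent.CycLib28.MultLocal
import Groth.Agent.AbSchLib.SmoothReduced
import Groth.Prelude.Def_ModFun

/-!
# Curves of genus zero with a rational point; the line as a curve of genus zero
-/

set_option autoImplicit false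
set_option linter.style.haveILetI false
set_option backward.isDefEq.respectTransparency.types false
set_option maxHeartbeats 1000000

universe u

open CategoryTheory CategoryTheory.Limits AlgebraicGeometry

namespace Groth.Agent.EssDimP1

attribute [local instance] MvPolynomial.algebraMvPolynomial

/-- The projective line over a field is a curve of genus zero. -/
theorem isCurveOfGenus_projLine (K : Type u) [Field K] :
    ModFun.IsCurveOfGenus 0 (CohB1.ProjSpace.toSpec 1 K) := by
  refine ⟨NeronLib.smooth_projLine K, NeronLib.isProper_projLine K, NeronLib.geometricallyIrreducible_projLine K,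
    fun Ω _ _ t X i q h => ?_⟩
  obtain ⟨ρ, rfl⟩ := Spec.map_surjective t
  letI : Algebra K Ω := ρ.hom.toAlgebra
  let e := h.isoIsPullback _ _ (Coherent.isPullback_projSpace 1 K Ω)
  refine ⟨?_, ?_⟩
  · rw [← (DimLib.PN.topologicalKrullDim_projSpace 1 Ω).trans Nat.cast_one]
    exact (Scheme.homeoOfIso e).isHomeomorph.topologicalKrullDim_eq _
  · letI : X.Over (Spec (CommRingCat.of Ω)) := ⟨q⟩
    exact CurveRR24.genus_of_iso_projLine (k := Ω) e
      (h.isoIsPullback_hom_snd _ _ (Coherent.isPullback_projSpace 1 K Ω))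

/-- A curve of genus zero with a rational point is the projective line. -/
theorem exists_iso_projLine_of_section {L : Type u} [Field L] {C : Scheme.{u}}
    (f : C ⟶ Spec (CommRingCat.of L)) (hC : ModFun.IsCurveOfGenus 0 f)
    (s : Spec (CommRingCat.of L) ⟶ C) (hs : s ≫ f = 𝟙 _) :
    ∃ e : C ≅ CohB1.ProjSpace 1 L, e.hom ≫ CohB1.ProjSpace.toSpec 1 L = f := by
  classical
  obtain ⟨hsm, hpr, hgi, hfib⟩ := hC
  letI : C.Over (Spec (CommRingCat.of L)) := ⟨f⟩
  haveI := hsm
  haveI := hgi
  haveI : IsProper (C ↘ Spec (CommRingCat.of L)) := hpr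
  haveI := AbSchLib.geometricallyReduced_of_smooth f
  haveI : GeometricallyIntegral f :=
    GeometricallyIntegral.of_geometricallyReduced_of_geometricallyIrreducible _
  haveI : IsIntegral C := GeometricallyIntegral.isIntegral_of_subsingleton f
  let Ω := AlgebraicClosure L
  let t := Spec.map (CommRingCat.ofHom (algebraMap L Ω))
  letI : (pullback f t).Over (Spec (CommRingCat.of Ω)) := ⟨pullback.snd f t⟩
  have hpb : IsPullback (pullback.fst f t) (pullback f t ↘ Spec (CommRingCat.of Ω))
      (C ↘ Spec (CommRingCat.of L)) (Spec.map (CommRingCat.ofHom (algebraMap L Ω))) :=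
    IsPullback.of_hasPullback f t
  obtain ⟨hdΩ, hgΩ⟩ := hfib Ω t _ _ _ (IsPullback.of_hasPullback f t)
  haveI : IsProper f := hpr
  have hdim : topologicalKrullDim C = 1 := (DimLib.topologicalKrullDim_bc f Ω).symm.trans hdΩ
  haveI : IsLocallyNoetherian C := CurveRR24.isLocallyNoetherian_of_proper L
  haveI := EulerLib.isNoetherian_of_proper L (X := C)
  have hg : Curv2.genus L C = 0 := (CurveRR24.genus_bc hpb).symm.trans hgΩ
  obtain ⟨pt⟩ : Nonempty (Spec (CommRingCat.of L)) := inferInstanceAs (Nonempty (PrimeSpectrum L))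
  have hP := CurveRR24.isClosed_section_point (X := C) s hs pt
  haveI : IsRegularLocalRing (C.presheaf.stalk (s pt)) := CycLib28.isRegularLocalRing_stalk f _
  haveI : IsDomain (C.presheaf.stalk (s pt)) := CAlgH3.isDomain_of_isRegularLocalRing _
  haveI : IsDiscreteValuationRing (C.presheaf.stalk (s pt)) :=
    IsLocalRing.finrank_CotangentSpace_eq_one_iff.1 (by
      have h := (IsRegularLocalRing.iff_finrank_cotangentSpace (C.presheaf.stalk (s pt))).1 inferInstance
      rw [CurveRR24.stalk_dim_eq_one hdim hP] at h
      exact_mod_cast h)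
  obtain ⟨M, hM, hdeg⟩ : ∃ M : C.Modules, PicF.IsInvertible M ∧ Curv2.deg L C M 1 = 1 := by
    have h := CurveRR24.deg_mem_degGroup L hdim hP inferInstance
    rw [CurveRR24.finrank_resField_section (X := C) s hs pt] at h
    exact h
  have h1 : Subsingleton (Coh.HH C (Coh.structureModule C) 1) := by
    haveI := CurveRR24.finite_HH_of_isCoh L (Coherent.isCoh_structureModule C) 1
    exact (Module.finrank_zero_iff (R := L)).1 hg
  exact CurveRR24.exists_iso_projLine_of_h1 L hdim h1 hM hdeg

end Groth.Agent.EssDimP1
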