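import Groth.Agent.EssDimP1.PointAt
import Groth.Agent.Coherent.ProjSpaceBase
import Mathlib

/-!
# Moving two rational points of the line to `(1:0)` and `(0:1)`
-/

set_option autoImplicit false
set_option backward.isDefEq.respectTransparency.types false

universe u

open CategoryTheory CategoryTheory.Limits AlgebraicGeometry MvPolynomial HomogeneousLocalization
open Groth.Agent.ProjLib

namespace Groth.Agent.EssDimP1

variable {L : Type u} [Field L]

/-- The linear substitution `X i ↦ ∑ j, M i j * X j`. -/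
noncomputable def linSub (M : Matrix (Fin 2) (Fin 2) L) :
    CohB1.polyGrading 1 L →+*ᵍ CohB1.polyGrading 1 L where
  toRingHom := (MvPolynomial.aeval fun i : Fin (1 + 1) =>
    ∑ j : Fin (1 + 1), MvPolynomial.C (M i j) * MvPolynomial.X j).toRingHom
  map_mem {i p} hp := by
    have h : ∀ i : Fin (1 + 1), (∑ j : Fin (1 + 1), MvPolynomial.C (M i j) * MvPolynomial.X j).IsHomogeneous 1 :=
      fun i => MvPolynomial.IsHomogeneous.sum _ _ _ fun j _ => by
        simpa using (isHomogeneous_C _ (M i j)).mul (isHomogeneous_X L j)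
    simpa using MvPolynomial.IsHomogeneous.aeval hp _ h

theorem linSub_apply (M : Matrix (Fin 2) (Fin 2) L) (p : MvPolynomial (Fin (1 + 1)) L) :
    linSub M p = MvPolynomial.aeval (fun i : Fin (1 + 1) =>
      ∑ j : Fin (1 + 1), MvPolynomial.C (M i j) * MvPolynomial.X j) p := rfl

theorem linSub_C (M : Matrix (Fin 2) (Fin 2) L) (r : L) :
    linSub M (MvPolynomial.C r) = MvPolynomial.C r := by rw [linSub_apply, aeval_C]; rfl

theorem linSub_linSub (M N : Matrix (Fin 2) (Fin 2) L) (p : MvPolynomial (Fin (1 + 1)) L) :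
    linSub M (linSub N p) = linSub (N * M) p := by
  refine RingHom.congr_fun (MvPolynomial.ringHom_ext (f := (linSub M).toRingHom.comp (linSub N).toRingHom)
    (g := (linSub (N * M)).toRingHom) (fun r => ?_) (fun i => ?_)) p
  · show linSub M (linSub N (C r)) = linSub (N * M) (C r)
    rw [linSub_C, linSub_C, linSub_C]
  · show linSub M (linSub N (X i)) = linSub (N * M) (X i)
    simp only [linSub_apply, aeval_X, map_sum, map_mul, aeval_C, Matrix.mul_apply, map_add,
      MvPolynomial.algebraMap_eq, Finset.sum_mul, Finset.mul_sum]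
    rw [Finset.sum_comm]
    refine Finset.sum_congr rfl fun _ _ => Finset.sum_congr rfl fun _ _ => ?_
    ring

theorem linSub_one (p : MvPolynomial (Fin (1 + 1)) L) : linSub (1 : Matrix (Fin 2) (Fin 2) L) p = p := by
  refine RingHom.congr_fun (MvPolynomial.ringHom_ext (f := (linSub 1).toRingHom)
    (g := RingHom.id _) (fun r => linSub_C _ r) (fun i => ?_)) p
  show linSub 1 (X i) = X i
  fin_cases i <;> simp [linSub_apply, Fin.sum_univ_two]

theorem eval_linSub (M : Matrix (Fin 2) (Fin 2) L) (v : Fin (1 + 1) → L) (p : MvPolynomial (Fin (1 + 1)) L) :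
    eval₂Hom (RingHom.id L) v (linSub M p) = eval₂Hom (RingHom.id L) (M.mulVec v) p := by
  refine RingHom.congr_fun (MvPolynomial.ringHom_ext (f := (eval₂Hom (RingHom.id L) v).comp (linSub M).toRingHom)
    (g := eval₂Hom (RingHom.id L) (M.mulVec v)) (fun r => ?_) (fun i => ?_)) p
  · show eval₂Hom (RingHom.id L) v (linSub M (C r)) = _
    rw [linSub_C, eval₂Hom_C, eval₂Hom_C]
  · show eval₂Hom (RingHom.id L) v (linSub M (X i)) = _
    simp [linSub_apply, Matrix.mulVec, dotProduct]
    fin_cases i <;> rfl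

theorem linSub_irrelevant {M N : Matrix (Fin 2) (Fin 2) L} (h : N * M = 1) :
    HomogeneousIdeal.irrelevant (CohB1.polyGrading 1 L) ≤
      (HomogeneousIdeal.irrelevant (CohB1.polyGrading 1 L)).map (linSub M) := by
  intro p hp
  refine (Ideal.span_le.2 ?_ : Ideal.span _ ≤ _) (ProjLib.irrelevant_le_span_X 1 L hp)
  rintro _ ⟨i, rfl⟩
  have e : linSub M (linSub N (X i)) = (X i : MvPolynomial (Fin (1 + 1)) L) := by
    rw [linSub_linSub, h, linSub_one]
  rw [← e]
  exact Ideal.mem_map_of_mem _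
    (HomogeneousIdeal.mem_irrelevant_of_mem _ one_pos ((linSub N).2 (ProjLib.X_mem_polyGrading 1 L i)))

theorem map_linSub_comp {M N : Matrix (Fin 2) (Fin 2) L} (h : N * M = 1) (h' : M * N = 1) :
    Proj.map (linSub M) (linSub_irrelevant h) ≫ Proj.map (linSub N) (linSub_irrelevant h') = 𝟙 _ := by
  rw [← Proj.map_comp]
  have e : (linSub M).comp (linSub N) = GradedRingHom.id (CohB1.polyGrading 1 L) := by
    refine DFunLike.ext _ _ fun p => ?_
    show linSub M (linSub N p) = p
    rw [linSub_linSub, h, linSub_one]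
  convert Proj.map_id (𝒜 := CohB1.polyGrading 1 L) using 2

/-- The automorphism of the line given by a pair of mutually inverse matrices. -/
noncomputable def lineAut {M N : Matrix (Fin 2) (Fin 2) L} (h : N * M = 1) (h' : M * N = 1) :
    CohB1.ProjSpace 1 L ≅ CohB1.ProjSpace 1 L where
  hom := Proj.map (linSub M) (linSub_irrelevant h)
  inv := Proj.map (linSub N) (linSub_irrelevant h')
  hom_inv_id := map_linSub_comp h h'
  inv_hom_id := map_linSub_comp h' h

theorem lineAut_toSpec {M N : Matrix (Fin 2) (Fin 2) L} (h : N * M = 1) (h' : M * N = 1) :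
    (lineAut h h').hom ≫ CohB1.ProjSpace.toSpec 1 L = CohB1.ProjSpace.toSpec 1 L := by
  refine (map_toSpec (linSub M) (ρ := RingHom.id L) (fun r => linSub_C M r) (linSub_irrelevant h)).trans ?_
  rw [CommRingCat.ofHom_id, Spec.map_id, Category.comp_id]

/-- The standard vectors. -/
def stdVec (R : Type u) [Zero R] [One R] (i : Fin (1 + 1)) : Fin (1 + 1) → R := fun l => if l = i then 1 else 0

theorem stdVec_self (R : Type u) [Zero R] [One R] (i : Fin (1 + 1)) : stdVec R i i = 1 := if_pos rfl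

/-- The standard rational points of the line. -/
noncomputable def stdPt {R : Type u} [CommRing R] {S : Type u} [CommRing S] (q : R →+* S) (i : Fin (1 + 1)) :
    Spec (CommRingCat.of S) ⟶ CohB1.ProjSpace 1 R :=
  BrSev28.pt 1 q i (stdVec S i) (stdVec_self S i)

theorem stdPt_toSpec {R : Type u} [CommRing R] {S : Type u} [CommRing S] (q : R →+* S) (i : Fin (1 + 1)) :
    stdPt q i ≫ CohB1.ProjSpace.toSpec 1 R = Spec.map (CommRingCat.ofHom q) :=
  BrSev28.pt_toSpec 1 q i _ _

/-- The standard points are distinct. -/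
theorem stdPt_zero_apply_ne {R : Type u} [CommRing R] {S : Type u} [Field S] {S' : Type u} [Field S']
    (q : R →+* S) (q' : R →+* S') (p : Spec (CommRingCat.of S)) (p' : Spec (CommRingCat.of S')) :
    stdPt q 0 p ≠ stdPt q' 1 p' := by
  intro h
  have h1 : stdPt q' 1 p' ∈ Proj.basicOpen (CohB1.polyGrading 1 R) (X 1 : MvPolynomial (Fin (1 + 1)) R) := by
    rw [stdPt, ← pointAt_X q' (stdVec S' 1) 1 (stdVec_self S' 1), pointAt]
    rw [← Proj.opensRange_awayι (CohB1.polyGrading 1 R) (X 1) (ProjLib.X_mem_polyGrading 1 R 1) one_pos]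
    exact ⟨_, rfl⟩
  rw [← h, stdPt, ← pointAt_X q (stdVec S 0) 0 (stdVec_self S 0)] at h1
  exact pointAt_notMem q (stdVec S 0) _ _ (ProjLib.X_mem_polyGrading 1 R 1) one_pos _
    (by simp [stdVec]) p h1

/-- A rational point has normalised coordinates. -/
theorem exists_pt (z : Spec (CommRingCat.of L) ⟶ CohB1.ProjSpace 1 L)
    (hz : z ≫ CohB1.ProjSpace.toSpec 1 L = 𝟙 _) :
    ∃ (i : Fin (1 + 1)) (v : Fin (1 + 1) → L) (hv : v i = 1), z = BrSev28.pt 1 (RingHom.id L) i v hv := by
  obtain ⟨f, hf, i, v, hv, e⟩ := BrSev28.exists_pt_local 1 (RingHom.id L) z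
    (hz.trans (by rw [CommRingCat.ofHom_id, Spec.map_id])) ⊥
  have hu : IsUnit f := isUnit_iff_ne_zero.2 fun h => hf (h ▸ zero_mem _)
  let β : Localization.Away f →+* L := Localization.awayLift (RingHom.id L) f hu
  have hβ : β.comp (algebraMap L _) = RingHom.id L := IsLocalization.Away.lift_comp _ _
  refine ⟨i, fun l => β (v l), (congrArg β hv).trans (map_one β), ?_⟩
  have e' := congrArg (Spec.map (CommRingCat.ofHom β) ≫ ·) e
  simp only [BrSev28.pt_comp, ← Category.assoc, ← Spec.map_comp, ← CommRingCat.ofHom_comp, hβ,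
    CommRingCat.ofHom_id, Spec.map_id, Category.id_comp, RingHom.comp_id] at e'
  exact e'

/-- Distinct points have independent coordinates. -/
theorem det_ne_zero {i j : Fin (1 + 1)} {v w : Fin (1 + 1) → L} (hv : v i = 1) (hw : w j = 1)
    (h : BrSev28.pt 1 (RingHom.id L) i v hv ≠ BrSev28.pt 1 (RingHom.id L) j w hw) :
    v 0 * w 1 - v 1 * w 0 ≠ 0 := by
  intro hd
  apply h
  have hw' : w = fun l => w i * v l := by
    funext l
    fin_cases i <;> fin_cases l <;> simp only [Fin.mk_zero, Fin.mk_one, Fin.isValue, Fin.zero_eta] at hv ⊢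
    all_goals first
      | (rw [hv, mul_one])
      | (linear_combination -(w 0) * 0 + hd - (w 1) * hv)
      | (linear_combination -hd - (w 0) * hv)
  have hc : w i * v j = 1 := (congrFun hw' j).symm.trans hw
  rw [BrSev28.pt_change 1 (RingHom.id L) i j v hv (w i) hc]
  congr 1
  exact hw'.symm

/-- Two distinct rational points can be moved to the standard ones. -/
theorem exists_aut_std (z₀ z₁ : Spec (CommRingCat.of L) ⟶ CohB1.ProjSpace 1 L)
    (h₀ : z₀ ≫ CohB1.ProjSpace.toSpec 1 L = 𝟙 _) (h₁ : z₁ ≫ CohB1.ProjSpace.toSpec 1 L = 𝟙 _) (hne : z₀ ≠ z₁) :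
    ∃ α : CohB1.ProjSpace 1 L ≅ CohB1.ProjSpace 1 L, α.hom ≫ CohB1.ProjSpace.toSpec 1 L = CohB1.ProjSpace.toSpec 1 L ∧
      z₀ ≫ α.hom = stdPt (RingHom.id L) 0 ∧ z₁ ≫ α.hom = stdPt (RingHom.id L) 1 := by
  obtain ⟨i, v, hv, rfl⟩ := exists_pt z₀ h₀
  obtain ⟨j, w, hw, rfl⟩ := exists_pt z₁ h₁
  let N : Matrix (Fin 2) (Fin 2) L := !![v 0, w 0; v 1, w 1]
  have hN : IsUnit N.det := by
    rw [Matrix.det_fin_two_of, isUnit_iff_ne_zero]
    simpa [mul_comm] using det_ne_zero hv hw hne
  let M := N⁻¹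
  have h : N * M = 1 := Matrix.mul_nonsing_inv N hN
  have h' : M * N = 1 := Matrix.nonsing_inv_mul N hN
  have key : ∀ (a : Fin (1 + 1) → L) (i l : Fin (1 + 1)) (hi : a i = 1), M.mulVec a = stdVec L l →
      BrSev28.pt 1 (RingHom.id L) i a hi ≫ (lineAut h h').hom = stdPt (RingHom.id L) l := by
    intro a i l hi hM
    have hc : ∀ p, eval₂Hom (RingHom.id L) a (linSub M p) = eval₂Hom (RingHom.id L) (stdVec L l) p := fun p => by
      rw [eval_linSub, hM]
    have hne : eval₂Hom (RingHom.id L) (stdVec L l) (X l : MvPolynomial (Fin (1 + 1)) L) ≠ 0 :=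
      eval₂Hom_X_ne_zero _ _ (stdVec_self L l)
    rw [stdPt, ← pointAt_X (RingHom.id L) (stdVec L l) l (stdVec_self L l),
      ← pointAt_map (RingHom.id L) (stdVec L l) (RingHom.id L) a (linSub M) (linSub_irrelevant h) hc
        (ProjLib.X_mem_polyGrading 1 L l) one_pos hne,
      ← pointAt_X (RingHom.id L) a i hi,
      pointAt_indep (RingHom.id L) a (ProjLib.X_mem_polyGrading 1 L i) one_pos
        ((linSub M).2 (ProjLib.X_mem_polyGrading 1 L l)) one_pos _ ((hc (X l)).trans_ne hne)]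
    rfl
  have hcol : ∀ (a : Fin (1 + 1) → L) (l : Fin (1 + 1)), (∀ r, N r l = a r) → M.mulVec a = stdVec L l := by
    intro a l ha
    funext r
    have := congrFun (congrFun h' r) l
    rw [Matrix.mul_apply] at this
    simp only [ha] at this
    simp only [Matrix.mulVec, dotProduct, stdVec]
    rw [this, Matrix.one_apply]
  exact ⟨lineAut h h', lineAut_toSpec h h',
    key v i 0 hv (hcol v 0 fun r => by fin_cases r <;> simp [N]),
    key w j 1 hw (hcol w 1 fun r => by fin_cases r <;> simp [N])⟩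

/-- One rational point can be moved to `(1:0)`. -/
theorem exists_aut_std_one (z : Spec (CommRingCat.of L) ⟶ CohB1.ProjSpace 1 L)
    (hz : z ≫ CohB1.ProjSpace.toSpec 1 L = 𝟙 _) :
    ∃ α : CohB1.ProjSpace 1 L ≅ CohB1.ProjSpace 1 L, α.hom ≫ CohB1.ProjSpace.toSpec 1 L = CohB1.ProjSpace.toSpec 1 L ∧
      z ≫ α.hom = stdPt (RingHom.id L) 0 := by
  have hstd : ∀ i, stdPt (RingHom.id L) i ≫ CohB1.ProjSpace.toSpec 1 L = 𝟙 _ := fun i => by
    rw [stdPt_toSpec, CommRingCat.ofHom_id, Spec.map_id]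
  obtain ⟨l, hl⟩ : ∃ l, z ≠ stdPt (RingHom.id L) l := by
    by_cases h : z = stdPt (RingHom.id L) 0
    · exact ⟨1, fun h1 => stdPt_zero_apply_ne (RingHom.id L) (RingHom.id L) (IsLocalRing.closedPoint L)
        (IsLocalRing.closedPoint L) (congrArg (fun g => g (IsLocalRing.closedPoint L)) (h.symm.trans h1))⟩
    · exact ⟨0, h⟩
  obtain ⟨α, hα, ha, -⟩ := exists_aut_std z (stdPt (RingHom.id L) l) hz (hstd l) hl
  exact ⟨α, hα, ha⟩

end Groth.Agent.EssDimP1
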